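import Groth.Agent.Lib.Modules.Stalk

/-!
Checking mono / epi / iso of morphisms of O_X-modules on a basis of opens (e.g. affine opens).
-/

universe u

open CategoryTheory CategoryTheory.Limits AlgebraicGeometry Opposite TopologicalSpace
open Groth.Agent.Lib.Modules.Stalk

namespace Groth.Agent.Lib.ClSub.Basis

variable {X : Scheme.{u}} {M N : X.Modules} (φ : M ⟶ N)

theorem germ_map {x : X} {U V : X.Opens} (h : V ≤ U) (hx : x ∈ V) (s : Γ(M, U)) :
    M.presheaf.germ V x hx (M.presheaf.map (homOfLE h).op s) = M.presheaf.germ U x (h hx) s := by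
  rw [TopCat.Presheaf.germ_res_apply]

theorem map_app {U V : X.Opens} (h : V ≤ U) (s : Γ(M, U)) :
    φ.app V (M.presheaf.map (homOfLE h).op s) = N.presheaf.map (homOfLE h).op (φ.app U s) := by
  have := φ.mapPresheaf.naturality (homOfLE h).op
  exact congr($this s)

/-- Neighbourhood basis criterion for surjectivity on a stalk. -/
theorem stalk_surjective_of_basis (x : X)
    (h : ∀ U : X.Opens, x ∈ U → ∃ V ≤ U, x ∈ V ∧ Function.Surjective (φ.app V)) :
    Function.Surjective ((stalkFunctor X x).map φ) := by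
  intro t
  obtain ⟨U, hx, s, rfl⟩ := N.presheaf.exists_germ_eq t
  obtain ⟨V, hVU, hxV, hV⟩ := h U hx
  obtain ⟨m, hm⟩ := hV (N.presheaf.map (homOfLE hVU).op s)
  refine ⟨M.presheaf.germ V x hxV m, ?_⟩
  rw [stalkFunctor_map_germ, hm, germ_map]

/-- Neighbourhood basis criterion for injectivity on a stalk. -/
theorem stalk_injective_of_basis (x : X)
    (h : ∀ U : X.Opens, x ∈ U → ∃ V ≤ U, x ∈ V ∧ Function.Injective (φ.app V)) :
    Function.Injective ((stalkFunctor X x).map φ) := by
  intro a b hab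
  obtain ⟨U₁, hx₁, s, rfl⟩ := M.presheaf.exists_germ_eq a
  obtain ⟨U₂, hx₂, t, rfl⟩ := M.presheaf.exists_germ_eq b
  rw [stalkFunctor_map_germ, stalkFunctor_map_germ] at hab
  obtain ⟨W, hxW, i₁, i₂, heq⟩ := N.presheaf.germ_eq x hx₁ hx₂ _ _ hab
  obtain ⟨V, hVW, hxV, hV⟩ := h W hxW
  have key : M.presheaf.map (homOfLE (hVW.trans i₁.le)).op s =
      M.presheaf.map (homOfLE (hVW.trans i₂.le)).op t := by
    apply hV
    rw [map_app, map_app]
    have h2 := congr(N.presheaf.map (homOfLE hVW).op $heq)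
    simp only [← ConcreteCategory.comp_apply, Category.assoc, ← Functor.map_comp, ← op_comp] at h2 ⊢
    exact h2
  rw [← germ_map (hVW.trans i₁.le) hxV s, key, germ_map]

theorem exists_affine_le {x : X} {U : X.Opens} (hx : x ∈ U) :
    ∃ V : X.affineOpens, V.1 ≤ U ∧ x ∈ V.1 := by
  obtain ⟨V, hV, hxV, hVU⟩ := X.isBasis_affineOpens.exists_subset_of_mem_open hx U.isOpen
  obtain ⟨V', hV', rfl⟩ := hV
  exact ⟨⟨V', hV'⟩, hVU, hxV⟩

theorem epi_of_surjective_affine (h : ∀ U : X.affineOpens, Function.Surjective (φ.app U.1)) :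
    Epi φ := by
  rw [epi_iff_stalk_surjective]
  refine fun x => stalk_surjective_of_basis φ x fun U hx => ?_
  obtain ⟨V, hVU, hxV⟩ := exists_affine_le hx
  exact ⟨V.1, hVU, hxV, h V⟩

theorem mono_of_injective_affine (h : ∀ U : X.affineOpens, Function.Injective (φ.app U.1)) :
    Mono φ := by
  rw [mono_iff_stalk_injective]
  refine fun x => stalk_injective_of_basis φ x fun U hx => ?_
  obtain ⟨V, hVU, hxV⟩ := exists_affine_le hx
  exact ⟨V.1, hVU, hxV, h V⟩

theorem isIso_of_bijective_affine (h : ∀ U : X.affineOpens, Function.Bijective (φ.app U.1)) :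
    IsIso φ := by
  have := epi_of_surjective_affine φ fun U => (h U).2
  have := mono_of_injective_affine φ fun U => (h U).1
  exact isIso_of_mono_of_epi φ

end Groth.Agent.Lib.ClSub.Basis
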