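import Groth.Agent.Lib.ClSub.Sections
import Groth.Agent.Lib.ClSub.Basis
import Groth.Prelude.Def_BlowUp2
import Groth.Prelude.Def_Pic
import Mathlib.AlgebraicGeometry.Morphisms.Flat
import Mathlib.RingTheory.Flat.Basic

/-!
An effective Cartier ideal gives an invertible ideal module.
-/

universe u

open CategoryTheory CategoryTheory.Limits AlgebraicGeometry Opposite
open Groth.Agent.Lib.ClSub.Sections Groth.Agent.Lib.ClSub.Basis

namespace Groth.Agent.Lib.ClSub.Cartier

variable {X : Scheme.{u}}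

/-- The morphism `O_X ⟶ M` attached to a global section. -/
noncomputable def ofSection (M : X.Modules) (m : Γ(M, ⊤)) : Coh.structureModule X ⟶ M :=
  (SheafOfModules.unitHomEquiv M).symm (M.val.sectionsMk
    (fun V => M.presheaf.map (homOfLE (le_top (a := V.unop))).op m)
    (fun V W g => by
      change (M.presheaf.map (homOfLE le_top).op ≫ M.presheaf.map g) m = _
      rw [← Functor.map_comp]
      rfl))

theorem ofSection_app (M : X.Modules) (m : Γ(M, ⊤)) (V : X.Opens) (r : Γ(X, V)) :
    (ofSection M m).app V r = r • M.presheaf.map (homOfLE (le_top (a := V))).op m := rfl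

theorem ofSection_restrict_app (M : X.Modules) (U : X.Opens) (m : Γ(M, U)) (V : (↑U : Scheme.{u}).Opens)
    (r : Γ(X, U.ι ''ᵁ V)) :
    (ofSection (M.restrict U.ι) (M.presheaf.map (homOfLE (U.ι_image_le ⊤)).op m)).app V r =
      r • M.presheaf.map (homOfLE (U.ι_image_le V)).op m := by
  change (SMul.smul ((U.ι.appIso V).inv r : Γ(X, U.ι ''ᵁ V)) ((M.presheaf.map (homOfLE (U.ι_image_le ⊤)).op ≫
    M.presheaf.map (U.ι.opensFunctor.map (homOfLE (le_top (a := V)))).op) m : Γ(M, U.ι ''ᵁ V)) :
      Γ(M, U.ι ''ᵁ V)) = _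
  rw [← Functor.map_comp, Scheme.Opens.ι_appIso]
  rfl

/-- The restriction map between affine opens preserves nonzerodivisors. -/
theorem map_mem_nonZeroDivisors {U W : X.affineOpens} (h : W.1 ≤ U.1) {f : Γ(X, U.1)}
    (hf : f ∈ nonZeroDivisors Γ(X, U.1)) :
    X.presheaf.map (homOfLE h).op f ∈ nonZeroDivisors Γ(X, W.1) := by
  have hfl : (X.presheaf.map (homOfLE h).op).hom.Flat := by
    have := Scheme.Hom.flat_appLE (𝟙 X) U.2 W.2 (e := h)
    simp only [Scheme.Hom.appLE, Scheme.Hom.id_app] at this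
    exact this
  algebraize [(X.presheaf.map (homOfLE h).op).hom]
  have := IsSMulRegular.of_flat (S := Γ(X, W.1))
    (isSMulRegular_iff_right_eq_zero_of_smul.mpr fun x hx =>
      (mem_nonZeroDivisors_iff.mp hf).1 x hx)
  rw [mem_nonZeroDivisors_iff]
  have hinj : ∀ y : Γ(X, W.1), X.presheaf.map (homOfLE h).op f * y = 0 → y = 0 :=
    fun y hy => isSMulRegular_iff_right_eq_zero_of_smul.mp this y hy
  exact ⟨hinj, fun y hy => hinj y (by rwa [mul_comm])⟩

theorem isIso_ofSection_restrict (I : X.IdealSheafData) (U : X.affineOpens) (f : Γ(X, U.1))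
    (hf : f ∈ nonZeroDivisors Γ(X, U.1)) (hI : I.ideal U = Ideal.span {f})
    (m : Γ(_root_.ClSub.idealMod I, U.1)) (hm : (_root_.ClSub.idealModι I).app U.1 m = f) :
    IsIso (ofSection ((_root_.ClSub.idealMod I).restrict U.1.ι)
      ((_root_.ClSub.idealMod I).presheaf.map
        (homOfLE (show U.1.ι ''ᵁ ⊤ ≤ U.1 from U.1.ι_image_le _)).op m)) := by
  set m' : Γ((_root_.ClSub.idealMod I).restrict U.1.ι, ⊤) :=
    (_root_.ClSub.idealMod I).presheaf.map
      (homOfLE (show U.1.ι ''ᵁ ⊤ ≤ U.1 from U.1.ι_image_le _)).op m with hm'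
  refine isIso_of_bijective_affine _ fun V => ?_
  have hWU : U.1.ι ''ᵁ V.1 ≤ U.1 := U.1.ι_image_le _
  let W : X.affineOpens := ⟨U.1.ι ''ᵁ V.1, V.2.image_of_isOpenImmersion U.1.ι⟩
  have key : ∀ r : Γ(X, W.1),
      (_root_.ClSub.idealModι I).app W.1
        (r • (_root_.ClSub.idealMod I).presheaf.map (homOfLE hWU).op m) =
      r * X.presheaf.map (homOfLE hWU).op f := by
    intro r
    rw [Scheme.Modules.Hom.app_smul, map_app, hm]
    rfl
  have happ : ∀ r : Γ(X, W.1),
      (ofSection ((_root_.ClSub.idealMod I).restrict U.1.ι) m').app V.1 r =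
        r • (_root_.ClSub.idealMod I).presheaf.map (homOfLE hWU).op m :=
    fun r => ofSection_restrict_app (_root_.ClSub.idealMod I) U.1 m V.1 r
  constructor
  · intro a b hab
    change (ofSection ((_root_.ClSub.idealMod I).restrict U.1.ι) m').app V.1 a = _ at hab
    have h := congr((_root_.ClSub.idealModι I).app W.1 $((happ a).symm.trans (hab.trans (happ b))))
    exact (mul_cancel_right_mem_nonZeroDivisors (map_mem_nonZeroDivisors (U := U) (W := W) hWU hf)).mp
      ((key a).symm.trans (h.trans (key b)))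
  · intro y
    have hy : (_root_.ClSub.idealModι I).app W.1 y ∈ I.ideal W :=
      (mem_range_idealModι_app_affine_iff I W _).mp ⟨y, rfl⟩
    rw [← I.map_ideal (U := W) (V := U) hWU, hI, Ideal.map_span, Set.image_singleton] at hy
    obtain ⟨r, hr⟩ := (Ideal.mem_span_singleton' (α := Γ(X, W.1))).mp hy
    exact ⟨r, (happ r).trans (idealModι_app_injective I W.1 ((key r).trans hr))⟩

/-- The ideal module of an effective Cartier ideal sheaf is invertible. -/
theorem isInvertible_idealMod {I : X.IdealSheafData} (hI : BlowUp.IsEffCartierIdeal I) :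
    PicF.IsInvertible (_root_.ClSub.idealMod I) := by
  intro x
  obtain ⟨U, hx, f, hf, hU⟩ := hI x
  obtain ⟨m, hm⟩ := (mem_range_idealModι_app_affine_iff I U f).mpr
    (hU ▸ Ideal.mem_span_singleton_self f)
  haveI := isIso_ofSection_restrict I U f hf hU m hm
  exact ⟨U.1, hx, ⟨(asIso (ofSection ((_root_.ClSub.idealMod I).restrict U.1.ι)
    ((_root_.ClSub.idealMod I).presheaf.map (homOfLE (U.1.ι_image_le ⊤)).op m))).symm⟩⟩

end Groth.Agent.Lib.ClSub.Cartier
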