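import Groth.Agent.Lib.ClSub.Sections
import Groth.Agent.Lib.ClSub.Basis
import Mathlib.Algebra.Homology.ShortComplex.ShortExact

/-!
`O_X ⟶ O_X / I` is an epimorphism; the support of `O_X / I` is the support of `I`.
-/

universe u

open CategoryTheory CategoryTheory.Limits AlgebraicGeometry Opposite TopologicalSpace
open Groth.Agent.Lib.ClSub.Sections Groth.Agent.Lib.ClSub.Basis

namespace Groth.Agent.Lib.ClSub.Quot

variable {X : Scheme.{u}} (I : X.IdealSheafData)

instance epi_toSubscheme : Epi (_root_.ClSub.toSubscheme I) :=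
  epi_of_surjective_affine _ fun U => toSubscheme_app_surjective I U

instance mono_idealModι : Mono (_root_.ClSub.idealModι I) :=
  inferInstanceAs (Mono (kernel.ι (_root_.ClSub.toSubscheme I)))

theorem idealModι_toSubscheme : _root_.ClSub.idealModι I ≫ _root_.ClSub.toSubscheme I = 0 :=
  kernel.condition _

/-- `0 ⟶ idealMod I ⟶ O_X ⟶ quotMod I ⟶ 0`. -/
noncomputable def idealSeq : ShortComplex X.Modules :=
  ShortComplex.mk _ _ (idealModι_toSubscheme I)

theorem idealSeq_shortExact : (idealSeq I).ShortExact where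
  exact := ShortComplex.exact_of_f_is_kernel _ (kernelIsKernel _)
  mono_f := mono_idealModι I
  epi_g := epi_toSubscheme I

theorem support_quotMod : CohB1.support (_root_.ClSub.quotMod I) = (I.support : Set X) := by
  ext x
  constructor
  · intro hx
    by_contra hxI
    refine hx ⟨fun a b => ?_⟩
    suffices ∀ c : (_root_.ClSub.quotMod I).presheaf.stalk x, c = 0 by rw [this a, this b]
    intro c
    obtain ⟨U, hxU, s, rfl⟩ := (_root_.ClSub.quotMod I).presheaf.exists_germ_eq c
    let V : X.Opens := U ⊓ I.support.compl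
    have hs : (_root_.ClSub.quotMod I).presheaf.map (homOfLE (inf_le_left : V ≤ U)).op s = 0 := by
      have hV : I.subschemeι ⁻¹ᵁ V = ⊥ := by
        ext z
        simp only [Opens.coe_bot, Set.mem_empty_iff_false, iff_false]
        exact fun hz => hz.2 (I.range_subschemeι ▸ Set.mem_range_self z : I.subschemeι z ∈ (I.support : Set X))
      have : Subsingleton Γ(I.subscheme, I.subschemeι ⁻¹ᵁ V) := by
        rw [hV]; infer_instance
      exact @Subsingleton.elim _ this _ _
    rw [← germ_map (inf_le_left : V ≤ U) ⟨hxU, hxI⟩, hs, map_zero]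
  · intro hx hsub
    obtain ⟨z, rfl⟩ : x ∈ Set.range I.subschemeι := I.range_subschemeι ▸ hx
    have h : (_root_.ClSub.quotMod I).presheaf.germ ⊤ (I.subschemeι z) (Opens.mem_top _)
        (1 : Γ(I.subscheme, I.subschemeι ⁻¹ᵁ ⊤)) =
      (_root_.ClSub.quotMod I).presheaf.germ ⊤ (I.subschemeι z) (Opens.mem_top _)
        (0 : Γ(I.subscheme, I.subschemeι ⁻¹ᵁ ⊤)) := @Subsingleton.elim _ hsub _ _
    obtain ⟨W, hzW, i₁, i₂, heq⟩ := (_root_.ClSub.quotMod I).presheaf.germ_eq _ (Opens.mem_top _) (Opens.mem_top _) _ _ h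
    have h2 := congr(I.subscheme.presheaf.germ (I.subschemeι ⁻¹ᵁ W) z hzW $heq)
    change I.subscheme.presheaf.germ _ z hzW (I.subscheme.presheaf.map _ 1) =
      I.subscheme.presheaf.germ _ z hzW (I.subscheme.presheaf.map _ 0) at h2
    rw [map_one, map_one, map_zero, map_zero] at h2
    exact one_ne_zero h2

end Groth.Agent.Lib.ClSub.Quot
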