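import Groth.Prelude.Def_ClSub2
import Mathlib.AlgebraicGeometry.IdealSheaf.Subscheme

/-!
Sections of `ClSub.idealMod I` and of `ClSub.toSubscheme I`.
-/

universe u

open CategoryTheory CategoryTheory.Limits AlgebraicGeometry Opposite

namespace Groth.Agent.Lib.ClSub.Sections

variable {X Y : Scheme.{u}}

/-- Evaluation of O_X-modules on an open, as a functor to abelian groups. -/
noncomputable abbrev evalAb (U : X.Opens) : X.Modules ⥤ AddCommGrpCat.{u} :=
  (Scheme.Modules.toPresheaf X : X.Modules ⥤ (X.Opensᵒᵖ ⥤ AddCommGrpCat.{u})) ⋙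
    (evaluation _ _).obj (op U)

instance evalAb_additive (U : X.Opens) : (evalAb U).Additive where

instance evalAb_preservesKernel {M N : X.Modules} (φ : M ⟶ N) (U : X.Opens) :
    PreservesLimit (parallelPair φ 0) (evalAb U) := by
  let F : X.Modules ⥤ (X.Opensᵒᵖ ⥤ AddCommGrpCat.{u}) := Scheme.Modules.toPresheaf X
  have h1 : PreservesLimitsOfSize.{0, 0} F := @preservesSmallestLimits_of_preservesLimits _ _ _ _ F
    (inferInstanceAs (PreservesLimits (Scheme.Modules.toPresheaf X)))
  have h2 : PreservesLimit (parallelPair φ 0) F := inferInstance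
  have h3 : PreservesLimit (parallelPair φ 0 ⋙ F)
      ((evaluation X.Opensᵒᵖ AddCommGrpCat.{u}).obj (op U)) := evaluation_preservesLimit _ _
  exact comp_preservesLimit _ _

theorem evalAb_map {M N : X.Modules} (φ : M ⟶ N) (U : X.Opens) :
    (evalAb U).map φ = φ.app U := rfl

theorem kernel_ι_app_injective {M N : X.Modules} (φ : M ⟶ N) (U : X.Opens) :
    Function.Injective ((kernel.ι φ).app U) := by
  have : Mono ((evalAb U).map (kernel.ι φ)) := by
    rw [← kernelComparison_comp_ι φ (evalAb U)]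
    infer_instance
  exact (AddCommGrpCat.mono_iff_injective _).mp this

theorem app_kernel_ι_app {M N : X.Modules} (φ : M ⟶ N) (U : X.Opens)
    (m : Γ(kernel φ, U)) : φ.app U ((kernel.ι φ).app U m) = 0 := by
  have h : ((kernel.ι φ) ≫ φ).app U = (0 : kernel φ ⟶ N).app U := by rw [kernel.condition]
  rw [Scheme.Modules.Hom.comp_app, Scheme.Modules.Hom.zero_app] at h
  exact congr($h m)

theorem exists_kernel_ι_app_eq {M N : X.Modules} (φ : M ⟶ N) (U : X.Opens)
    (m : Γ(M, U)) (hm : φ.app U m = 0) : ∃ n : Γ(kernel φ, U), (kernel.ι φ).app U n = m := by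
  let e : AddCommGrpCat.of (ULift.{u} ℤ) ⟶ (evalAb U).obj M :=
    AddCommGrpCat.ofHom ((zmultiplesHom _ m).comp AddEquiv.ulift.toAddMonoidHom)
  have he : e ≫ (evalAb U).map φ = 0 := by
    ext x
    obtain ⟨x⟩ := x
    change φ.app U (((zmultiplesHom _ m) x)) = 0
    rw [zmultiplesHom_apply]
    change (φ.app U).hom (x • m) = 0
    rw [map_zsmul]
    exact (congrArg (x • ·) hm).trans (smul_zero x)
  let l := kernel.lift ((evalAb U).map φ) e he ≫ (PreservesKernel.iso (evalAb U) φ).inv
  refine ⟨l ⟨1⟩, ?_⟩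
  have hl : l ≫ (evalAb U).map (kernel.ι φ) = e := by
    change (_ ≫ _) ≫ _ = e
    rw [Category.assoc, PreservesKernel.iso_inv_ι, kernel.lift_ι]
  change (l ≫ (evalAb U).map (kernel.ι φ)) ⟨1⟩ = m
  rw [hl]
  change (zmultiplesHom _ m) (1 : ℤ) = m
  rw [zmultiplesHom_apply, one_zsmul]

/-- The image of `Γ(idealMod I, U)` in `Γ(X, U)`. -/
theorem mem_range_idealModι_app_iff (I : X.IdealSheafData) (U : X.Opens) (s : Γ(X, U)) :
    (∃ m : Γ(_root_.ClSub.idealMod I, U), (_root_.ClSub.idealModι I).app U m = s) ↔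
      I.subschemeι.app U s = 0 := by
  refine ⟨?_, fun h => exists_kernel_ι_app_eq (_root_.ClSub.toSubscheme I) U s h⟩
  rintro ⟨m, rfl⟩
  exact app_kernel_ι_app (_root_.ClSub.toSubscheme I) U m

theorem idealModι_app_injective (I : X.IdealSheafData) (U : X.Opens) :
    Function.Injective ((_root_.ClSub.idealModι I).app U) :=
  kernel_ι_app_injective (_root_.ClSub.toSubscheme I) U

theorem mem_range_idealModι_app_affine_iff (I : X.IdealSheafData) (U : X.affineOpens) (s : Γ(X, U.1)) :
    (∃ m : Γ(_root_.ClSub.idealMod I, U.1), (_root_.ClSub.idealModι I).app U.1 m = s) ↔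
      s ∈ I.ideal U := by
  rw [mem_range_idealModι_app_iff, ← RingHom.mem_ker, I.ker_subschemeι_app U]

theorem toSubscheme_app_surjective (I : X.IdealSheafData) (U : X.affineOpens) :
    Function.Surjective ((_root_.ClSub.toSubscheme I).app U.1) :=
  I.subschemeι_app_surjective U

theorem toSubscheme_app (I : X.IdealSheafData) (U : X.Opens) (s : Γ(X, U)) :
    (_root_.ClSub.toSubscheme I).app U s = I.subschemeι.app U s := rfl

end Groth.Agent.Lib.ClSub.Sections
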